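import Mathlib.AlgebraicGeometry.Fiber
import Mathlib.AlgebraicGeometry.IdealSheaf.Subscheme
import Groth.Agent.RedSepLib.Reduced

/-! Fibres over points of a closed subscheme are base changes of the restriction to it. -/

set_option autoImplicit false

universe u

open AlgebraicGeometry CategoryTheory Limits

namespace Groth.Agent.InfNbhd

variable {X S : Scheme.{u}}

theorem fiberToSpecResidueField_of_pullback_subschemeι (P : MorphismProperty Scheme.{u})
    [P.IsStableUnderBaseChange] (f : X ⟶ S) (J : S.IdealSheafData) (s : S) (hs : s ∈ J.support)
    (h : P (pullback.snd f J.subschemeι)) : P (f.fiberToSpecResidueField s) := by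
  have : IsReduced (Spec (S.residueField s)) := inferInstance
  obtain ⟨g, hg⟩ := RedSepLib.exists_lift_of_range_subset (S.fromSpecResidueField s) J.subschemeι
    (by rw [Scheme.range_fromSpecResidueField, Scheme.IdealSheafData.range_subschemeι]
        exact Set.singleton_subset_iff.mpr hs)
  let m : f.fiber s ⟶ pullback f J.subschemeι :=
    pullback.lift (pullback.fst f (S.fromSpecResidueField s))
      (pullback.snd f (S.fromSpecResidueField s) ≫ g)
      (by rw [Category.assoc, hg]; exact pullback.condition)
  have hsq : IsPullback m (f.fiberToSpecResidueField s) (pullback.snd f J.subschemeι) g := by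
    refine IsPullback.of_right ?_ (pullback.lift_snd _ _ _) (IsPullback.of_hasPullback f J.subschemeι)
    rw [pullback.lift_fst, hg]
    exact IsPullback.of_hasPullback f (S.fromSpecResidueField s)
  exact MorphismProperty.of_isPullback hsq h

end Groth.Agent.InfNbhd
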